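import Groth.Prelude.Def_CohTop
import Mathlib.Algebra.Homology.DerivedCategory.Ext.ExactSequences

/-!
# Cohomology groups as objects, and their long exact sequence
-/

universe u

open CategoryTheory CategoryTheory.Limits TopologicalSpace Opposite Abelian

set_option backward.isDefEq.respectTransparency false

noncomputable section

namespace GrothLib.PicH1

variable {X : TopCat.{u}}

/-- `H^n` as a bundled group. -/
def HG (F : CohTop.Ab X) (n : ℕ) : AddCommGrpCat.{u} := AddCommGrpCat.of (Sheaf.H.{u} F n)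

/-- The map induced on `H^n`. -/
def HGmap {F G : CohTop.Ab X} (f : F ⟶ G) (n : ℕ) : HG F n →+ HG G n := Sheaf.H.map f n

/-- Degree zero. -/
def HG0 (F : CohTop.Ab X) : HG F 0 ≃+ F.obj.obj (op ⊤) :=
  Sheaf.H.equiv₀ F (isTerminalTop (α := Opens X))

theorem HG0_map {F G : CohTop.Ab X} (f : F ⟶ G) (x : HG F 0) :
    HG0 G (HGmap f 0 x) = f.hom.app (op ⊤) (HG0 F x) :=
  (Sheaf.H.equiv₀_naturality (isTerminalTop (α := Opens X)) f x).symm

variable {S : ShortComplex (CohTop.Ab X)} (hS : S.ShortExact)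

/-- The connecting map. -/
def HGdelta (n m : ℕ) (h : n + 1 = m) : HG S.X₃ n →+ HG S.X₁ m :=
  hS.extClass.postcomp _ h

theorem HG_exact₁ (n m : ℕ) (h : n + 1 = m) (x : HG S.X₁ m) :
    HGmap S.f m x = 0 ↔ ∃ y, HGdelta hS n m h y = x := by
  constructor
  · intro hx
    exact Ext.covariant_sequence_exact₁ _ hS x hx h
  · rintro ⟨y, rfl⟩
    show (Ext.comp _ hS.extClass h).comp (Ext.mk₀ S.f) (add_zero m) = 0
    rw [Ext.comp_assoc_of_third_deg_zero, hS.extClass_comp, Ext.comp_zero]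

include hS in
theorem HG_exact₂ (n : ℕ) (x : HG S.X₂ n) : HGmap S.g n x = 0 ↔ ∃ y, HGmap S.f n y = x := by
  constructor
  · intro hx
    exact Ext.covariant_sequence_exact₂ _ hS x hx
  · rintro ⟨y, rfl⟩
    refine (Sheaf.H.map_comp_apply S.f S.g y).symm.trans ?_
    rw [S.zero, Sheaf.H.map_apply, Ext.mk₀_zero, Ext.comp_zero]

theorem HG_exact₃ (n m : ℕ) (h : n + 1 = m) (x : HG S.X₃ n) :
    HGdelta hS n m h x = 0 ↔ ∃ y, HGmap S.g n y = x := by
  constructor
  · intro hx
    exact Ext.covariant_sequence_exact₃ _ hS x h hx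
  · rintro ⟨y, rfl⟩
    show (Ext.comp _ (Ext.mk₀ S.g) (add_zero n)).comp hS.extClass h = 0
    rw [Ext.comp_assoc_of_second_deg_zero, hS.comp_extClass, Ext.comp_zero]

end GrothLib.PicH1
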