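import Groth.Agent.Lib.PicH1.Pic
import Groth.Agent.Lib.PicH1.HG
import Groth.Agent.Lib.UnitsThick26.Seq
import Groth.Prelude.Def_ClSub2

/-!
# The exact sequence of a first order thickening
-/

universe u

open CategoryTheory CategoryTheory.Limits AlgebraicGeometry TopologicalSpace Opposite
open GrothLib.UnitsThick26

set_option backward.isDefEq.respectTransparency false

noncomputable section

namespace GrothLib.PicH1

variable {Z X : Scheme.{u}} {c : Z ⟶ X} (hc : IsSqZero c)

/-- The units sequence of a square-zero closed immersion, on the target. -/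
def thickSeq : ShortComplex (CohTop.Ab X.toTopCat) :=
  ShortComplex.mk (oneAdd hc) (UnitsSh.comap c) (oneAdd_comap hc)

theorem thickSeq_shortExact [IsClosedImmersion c] : (thickSeq hc).ShortExact :=
  unitsSeq_shortExact hc (𝟙 X)

theorem isSqZero_subschemeι (I : X.IdealSheafData) (hI : I * I = ⊥) : IsSqZero I.subschemeι :=
  isSqZero_of_affine _ fun W hW a b ha hb => by
    have hab : a * b ∈ (I * I).ideal ⟨W, hW⟩ := by
      rw [Scheme.IdealSheafData.ideal_mul, Pi.mul_apply]
      refine Ideal.mul_mem_mul ?_ ?_ <;> rw [← Scheme.IdealSheafData.ker_subschemeι_app] <;> assumption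
    rw [hI, Scheme.IdealSheafData.ideal_bot] at hab
    simpa using hab

/-- `toPic` on the bundled group. -/
def toPicHG (X : Scheme.{u}) : Multiplicative (HG (UnitsSh.unitsAb X) 1) →* Cube.Pic X := toPic X

/-- `toPicPush` on the bundled group. -/
def toPicPushHG (i : Z ⟶ X) :
    Multiplicative (HG ((CohTop.push i.base).obj (UnitsSh.unitsAb Z)) 1) →* Cube.Pic Z := toPicPush i

theorem toPicHG_bijective (X : Scheme.{u}) : Function.Bijective (toPicHG X) := toPic_bijective X

theorem toPicPushHG_bijective (i : Z ⟶ X) [IsClosedImmersion i] : Function.Bijective (toPicPushHG i) :=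
  ⟨toPicPush_injective i, toPicPush_surjective i⟩

theorem toPicPushHG_injective (i : Z ⟶ X) : Function.Injective (toPicPushHG i) := toPicPush_injective i

theorem toPicPushHG_comap (i : Z ⟶ X) (x : Multiplicative (HG (UnitsSh.unitsAb X) 1)) :
    toPicPushHG i (Multiplicative.ofAdd (HGmap (UnitsSh.comap i) 1 x.toAdd)) =
      Cube.pull i (toPicHG X x) :=
  toPicPush_comap i x.toAdd

/-- `H^1` of units and `PicSet`, on the bundled group. -/
def hgEquiv (X : Scheme.{u}) [PicGrp.Law X] :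
    Multiplicative (HG (UnitsSh.unitsAb X) 1) ≃* PicLoc.PicSet X :=
  (MulEquiv.ofBijective (toPicHG X) (toPicHG_bijective X)).trans (picSetEquiv X).symm

/-- The degree zero connecting map on units. -/
def conn0 [IsClosedImmersion c] : (Γ(Z, ⊤))ˣ →* Multiplicative (HG (Coh.toAb (kerMod c)) 1) :=
  MonoidHom.mk' (fun v => Multiplicative.ofAdd (HGdelta (thickSeq_shortExact hc) 0 1 rfl
    ((HG0 (thickSeq hc).X₃).symm (usect v)))) fun v w => by
    refine congrArg Multiplicative.ofAdd ((congrArg _ ?_).trans (map_add _ _ _))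
    exact map_add (HG0 (thickSeq hc).X₃).symm (usect v) (usect w)

/-- The map to the Picard group. -/
def toPicKer (c : Z ⟶ X) (hc : IsSqZero c) [PicGrp.Law X] :
    Multiplicative (HG (Coh.toAb (kerMod c)) 1) →* PicLoc.PicSet X :=
  (hgEquiv X).toMonoidHom.comp (AddMonoidHom.toMultiplicative (HGmap (oneAdd hc) 1))

/-- `H^1` of the units of `Z` on `X` as the Picard group of `Z`. -/
def pushEquiv (c : Z ⟶ X) [IsClosedImmersion c] [PicGrp.Law Z] :
    Multiplicative (HG ((CohTop.push c.base).obj (UnitsSh.unitsAb Z)) 1) ≃* PicLoc.PicSet Z :=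
  (MulEquiv.ofBijective (toPicPushHG c) (toPicPushHG_bijective c)).trans (picSetEquiv Z).symm

/-- The connecting map to `H^2`. -/
def conn1 [IsClosedImmersion c] [PicGrp.Law Z] :
    PicLoc.PicSet Z →* Multiplicative (HG (Coh.toAb (kerMod c)) 2) :=
  (AddMonoidHom.toMultiplicative (HGdelta (thickSeq_shortExact hc) 1 2 rfl)).comp
    (pushEquiv c).symm.toMonoidHom

theorem pushEquiv_map [IsClosedImmersion c] [PicGrp.Law X] [PicGrp.Law Z] (hi : PicGrp.PullMul c)
    (x : Multiplicative (HG (UnitsSh.unitsAb X) 1)) :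
    pushEquiv c (Multiplicative.ofAdd (HGmap (UnitsSh.comap c) 1 x.toAdd)) =
      PicGrp.pullHom c hi (hgEquiv X x) := by
  refine (picSetEquiv Z).injective ?_
  rw [picSetEquiv_pullHom, hgEquiv, pushEquiv, MulEquiv.trans_apply, MulEquiv.trans_apply,
    MulEquiv.apply_symm_apply, MulEquiv.apply_symm_apply, MulEquiv.ofBijective_apply, MulEquiv.ofBijective_apply]
  exact toPicPushHG_comap c x

theorem ker_conn0 [IsClosedImmersion c] :
    (conn0 hc).ker = (Units.map c.appTop.hom.toMonoidHom).range := by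
  ext v
  rw [MonoidHom.mem_ker]
  refine Iff.trans ⟨congrArg Multiplicative.toAdd, congrArg Multiplicative.ofAdd⟩
    ((HG_exact₃ (thickSeq_shortExact hc) 0 1 rfl _).trans ⟨?_, ?_⟩)
  · rintro ⟨y, hy⟩
    refine ⟨UnitsSh.unitOfSect (O := X.presheaf) (HG0 (thickSeq hc).X₂ y), ?_⟩
    refine (congrArg (UnitsSh.unitOfSect (O := Z.presheaf)) ((HG0_map (thickSeq hc).g y).symm.trans ?_) : _)
    exact (congrArg _ hy).trans (AddEquiv.apply_symm_apply _ _)
  · rintro ⟨w, rfl⟩
    refine ⟨(HG0 (thickSeq hc).X₂).symm (usect w), (HG0 (thickSeq hc).X₃).injective ?_⟩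
    refine (HG0_map (thickSeq hc).g _).trans (Eq.trans ?_ (AddEquiv.apply_symm_apply _ _).symm)
    exact congrArg _ (AddEquiv.apply_symm_apply (HG0 (thickSeq hc).X₂) (usect w))

theorem ker_toPicKer [IsClosedImmersion c] [PicGrp.Law X] : (toPicKer c hc).ker = (conn0 hc).range := by
  ext x
  rw [MonoidHom.mem_ker]
  refine Iff.trans ⟨fun h => congrArg Multiplicative.toAdd ((hgEquiv X).injective (h.trans (map_one _).symm)),
      fun h => (congrArg (hgEquiv X) (congrArg Multiplicative.ofAdd h)).trans (map_one _)⟩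
    ((HG_exact₁ (thickSeq_shortExact hc) 0 1 rfl x.toAdd).trans ⟨?_, ?_⟩)
  · rintro ⟨y, hy⟩
    refine ⟨UnitsSh.unitOfSect (O := Z.presheaf) (HG0 (thickSeq hc).X₃ y), congrArg Multiplicative.ofAdd ?_⟩
    exact (congrArg _ (AddEquiv.symm_apply_apply _ y)).trans hy
  · rintro ⟨v, rfl⟩
    exact ⟨(HG0 (thickSeq hc).X₃).symm (usect v), rfl⟩

theorem range_toPicKer [IsClosedImmersion c] [PicGrp.Law X] [PicGrp.Law Z] (hi : PicGrp.PullMul c) :
    (PicGrp.pullHom c hi).ker = (toPicKer c hc).range := by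
  ext p
  obtain ⟨x, rfl⟩ := (hgEquiv X).surjective p
  rw [MonoidHom.mem_ker, ← pushEquiv_map hi x]
  refine Iff.trans ⟨fun h => congrArg Multiplicative.toAdd ((pushEquiv c).injective (h.trans (map_one _).symm)),
      fun h => (congrArg (pushEquiv c) (congrArg Multiplicative.ofAdd h)).trans (map_one _)⟩
    ((HG_exact₂ (thickSeq_shortExact hc) 1 x.toAdd).trans ⟨?_, ?_⟩)
  · rintro ⟨y, hy⟩
    exact ⟨Multiplicative.ofAdd y, congrArg (fun z => hgEquiv X (Multiplicative.ofAdd z)) hy⟩
  · rintro ⟨y, hy⟩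
    exact ⟨y.toAdd, congrArg Multiplicative.toAdd ((hgEquiv X).injective hy)⟩

theorem ker_conn1 [IsClosedImmersion c] [PicGrp.Law X] [PicGrp.Law Z] (hi : PicGrp.PullMul c) :
    (conn1 hc).ker = (PicGrp.pullHom c hi).range := by
  ext p
  obtain ⟨z, rfl⟩ := (pushEquiv c).surjective p
  rw [MonoidHom.mem_ker]
  show AddMonoidHom.toMultiplicative _ ((pushEquiv c).symm (pushEquiv c z)) = 1 ↔ _
  rw [MulEquiv.symm_apply_apply]
  refine Iff.trans ⟨congrArg Multiplicative.toAdd, congrArg Multiplicative.ofAdd⟩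
    ((HG_exact₃ (thickSeq_shortExact hc) 1 2 rfl z.toAdd).trans ⟨?_, ?_⟩)
  · rintro ⟨y, hy⟩
    refine ⟨hgEquiv X (Multiplicative.ofAdd y), ?_⟩
    rw [← pushEquiv_map hi]
    exact congrArg (fun t => pushEquiv c (Multiplicative.ofAdd t)) hy
  · rintro ⟨q, hq⟩
    obtain ⟨x, rfl⟩ := (hgEquiv X).surjective q
    rw [← pushEquiv_map hi] at hq
    exact ⟨x.toAdd, congrArg Multiplicative.toAdd ((pushEquiv c).injective hq)⟩

theorem pull_injective_of_H1 [IsClosedImmersion c] (hc : IsSqZero c)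
    (h : Subsingleton (Sheaf.H.{u} (Coh.toAb (kerMod c)) 1)) : Function.Injective (Cube.pull c) := by
  refine (injective_iff_map_eq_one _).2 fun p hp => ?_
  obtain ⟨x, rfl⟩ := (toPicHG_bijective X).2 p
  rw [← toPicPushHG_comap] at hp
  have h' : HGmap (UnitsSh.comap c) 1 x.toAdd = 0 :=
    congrArg Multiplicative.toAdd (toPicPushHG_injective c (hp.trans (map_one _).symm))
  obtain ⟨y, hy⟩ := (HG_exact₂ (thickSeq_shortExact hc) 1 x.toAdd).1 h'
  have y0 : y = 0 := @Subsingleton.elim _ h y 0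
  have hx : x = 1 := congrArg Multiplicative.ofAdd ((hy.symm.trans (congrArg _ y0)).trans (map_zero _))
  rw [hx, map_one]

theorem pull_surjective_of_H2 [IsClosedImmersion c] (hc : IsSqZero c)
    (h : Subsingleton (Sheaf.H.{u} (Coh.toAb (kerMod c)) 2)) : Function.Surjective (Cube.pull c) := by
  intro p
  obtain ⟨z, rfl⟩ := (toPicPushHG_bijective c).2 p
  obtain ⟨y, hy⟩ := (HG_exact₃ (thickSeq_shortExact hc) 1 2 rfl z.toAdd).1 (@Subsingleton.elim _ h _ _)
  exact ⟨toPicHG X (Multiplicative.ofAdd y),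
    (toPicPushHG_comap c _).symm.trans (congrArg (fun t => toPicPushHG c (Multiplicative.ofAdd t)) hy)⟩

theorem cl_eq_of_pullCl_eq (c : Z ⟶ X) (hinj : Function.Injective (Cube.pull c)) {a b : PicF.Cl X}
    (ha : PicF.IsInvertibleCl a) (hb : PicF.IsInvertibleCl b) (h : PicF.pullCl c a = PicF.pullCl c b) : a = b := by
  have e : picSetMap (⟨a, ha⟩ : PicLoc.PicSet X) = picSetMap ⟨b, hb⟩ := by
    refine hinj ?_
    rw [← picSetMap_pull c, ← picSetMap_pull c]
    exact congrArg picSetMap (Subtype.ext h)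
  exact congrArg Subtype.val ((picSetMap_bijective X).1 e)

theorem exists_pullCl_eq (c : Z ⟶ X) (hs : Function.Surjective (Cube.pull c)) {a : PicF.Cl Z}
    (ha : PicF.IsInvertibleCl a) : ∃ b, PicF.IsInvertibleCl b ∧ PicF.pullCl c b = a := by
  obtain ⟨p, hp⟩ := hs (picSetMap ⟨a, ha⟩)
  obtain ⟨b, rfl⟩ := (picSetMap_bijective X).2 p
  rw [← picSetMap_pull c] at hp
  exact ⟨b.1, b.2, congrArg Subtype.val ((picSetMap_bijective Z).1 hp)⟩

end GrothLib.PicH1
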