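import Groth.Agent.Lib.PicH1.Thick
import Groth.Agent.Lib.OmegaAff.Basic
import Groth.Agent.Lib.IdealModSec.Basic
import Groth.Agent.Lib.QCoh.ClosedImmersion
import Groth.Agent.Lib.QCoh.PullbackSections
import Groth.Agent.Lib.Cohom.Compare
import Groth.Agent.Lib.UnitsThick26.Vanish

/-!
# Cohomology of a square-zero ideal on the closed subscheme
-/

universe u

open CategoryTheory CategoryTheory.Limits AlgebraicGeometry TopologicalSpace Opposite

set_option backward.isDefEq.respectTransparency false

noncomputable section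

namespace GrothLib.PicH1

variable {X : Scheme.{u}}

theorem killedByIdeal_idealMod (I : X.IdealSheafData) (hI : I * I = ⊥) :
    ClSub.KilledByIdeal I.subschemeι.ker (ClSub.idealMod I) := fun U a ha m => by
  rw [Scheme.IdealSheafData.ker_subschemeι] at ha
  refine IdealModSec.val_injective I U.1 ?_
  rw [IdealModSec.val_smul, IdealModSec.val_zero]
  have hab : a * IdealModSec.val I U.1 m ∈ (I * I).ideal U := by
    rw [Scheme.IdealSheafData.ideal_mul, Pi.mul_apply]
    exact Ideal.mul_mem_mul ha (IdealModSec.val_mem I U m)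
  rw [hI, Scheme.IdealSheafData.ideal_bot] at hab
  simpa using hab

theorem nonempty_HH_pullback_idealMod (I : X.IdealSheafData) (hI : I * I = ⊥) (n : ℕ) :
    Nonempty (Coh.HH I.subscheme ((Scheme.Modules.pullback I.subschemeι).obj (ClSub.idealMod I)) n ≃+
      Coh.HH X (ClSub.idealMod I) n) := by
  haveI := OmegaAff.isQuasicoherent_idealMod I
  haveI := FittSheaf.isQuasicoherent_pullback I.subschemeι (ClSub.idealMod I)
  haveI := QCoh.isIso_unit_of_killed I.subschemeι (ClSub.idealMod I) (killedByIdeal_idealMod I hI)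
  obtain ⟨e⟩ := Cohom.nonempty_HH_equiv_pushforward I.subschemeι
    ((Scheme.Modules.pullback I.subschemeι).obj (ClSub.idealMod I)) n
  exact ⟨e.trans (UnitsThick26.HIso ((SheafOfModules.toSheaf X.ringCatSheaf).mapIso
    (asIso ((Scheme.Modules.pullbackPushforwardAdjunction I.subschemeι).unit.app (ClSub.idealMod I)))) n).symm⟩

end GrothLib.PicH1
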