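import Groth.Agent.Lib.PicH1.Units
import Groth.Prelude.Def_PicGrp

/-!
# `H^1` of units and the Picard group
-/

universe u

open CategoryTheory CategoryTheory.Limits AlgebraicGeometry TopologicalSpace Opposite
open GrothLib.Ample

set_option backward.isDefEq.respectTransparency false

noncomputable section

namespace GrothLib.PicH1

/-- An additive, triviality detecting function of cocycles gives a map on `H^1`. -/
def clHom {T : TopCat.{u}} {F : CohTop.Ab T} {A : Type*} [CommGroup A] (P : Coc F → A)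
    (hadd : ∀ c d, P (c.add d) = P c * P d) (h1 : ∀ c, P c = 1 ↔ c.IsTrivial) :
    Multiplicative (Sheaf.H.{u} F 1) →* A :=
  MonoidHom.mk' (fun x => P (exists_cl_eq x.toAdd).choose) fun x y => by
    have hwd : ∀ c d : Coc F, c.cl = d.cl → P c = P d := fun c d h => by
      obtain ⟨e, he⟩ := exists_cl_eq (-d.cl)
      have hc : P c * P e = 1 := by
        rw [← hadd, h1, ← Coc.cl_eq_zero_iff, Coc.cl_add, he, h, add_neg_cancel]
      have hd : P d * P e = 1 := by
        rw [← hadd, h1, ← Coc.cl_eq_zero_iff, Coc.cl_add, he, add_neg_cancel]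
      exact mul_right_cancel (hc.trans hd.symm)
    show P _ = P _ * P _
    rw [← hadd]
    refine hwd _ _ ?_
    rw [Coc.cl_add, (exists_cl_eq x.toAdd).choose_spec, (exists_cl_eq y.toAdd).choose_spec]
    exact (exists_cl_eq (x * y).toAdd).choose_spec

theorem clHom_cl {T : TopCat.{u}} {F : CohTop.Ab T} {A : Type*} [CommGroup A] (P : Coc F → A)
    (hadd : ∀ c d, P (c.add d) = P c * P d) (h1 : ∀ c, P c = 1 ↔ c.IsTrivial) (c : Coc F) :
    clHom P hadd h1 (Multiplicative.ofAdd c.cl) = P c := by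
  show P _ = P c
  obtain ⟨e, he⟩ := exists_cl_eq (-c.cl)
  have hc : P c * P e = 1 := by rw [← hadd, h1, ← Coc.cl_eq_zero_iff, Coc.cl_add, he, add_neg_cancel]
  have h' : P (exists_cl_eq c.cl).choose * P e = 1 := by
    rw [← hadd, h1, ← Coc.cl_eq_zero_iff, Coc.cl_add, he, (exists_cl_eq c.cl).choose_spec, add_neg_cancel]
  exact mul_right_cancel (h'.trans hc.symm)

theorem clHom_injective {T : TopCat.{u}} {F : CohTop.Ab T} {A : Type*} [CommGroup A] (P : Coc F → A)
    (hadd : ∀ c d, P (c.add d) = P c * P d) (h1 : ∀ c, P c = 1 ↔ c.IsTrivial) :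
    Function.Injective (clHom P hadd h1) := by
  refine (injective_iff_map_eq_one _).2 fun x hx => ?_
  obtain ⟨c, hc⟩ := exists_cl_eq x.toAdd
  have hx' : x = Multiplicative.ofAdd c.cl := by rw [hc]; rfl
  rw [hx', clHom_cl, h1, ← Coc.cl_eq_zero_iff] at hx
  rw [hx', hx]
  rfl

variable {X Z : Scheme.{u}}

/-- `H^1(X, O^×) → Pic X`. -/
def toPic (X : Scheme.{u}) : Multiplicative (Sheaf.H.{u} (UnitsSh.unitsAb X) 1) →* Cube.Pic X :=
  clHom pic pic_add pic_eq_one_iff

theorem toPic_cl (c : Coc (UnitsSh.unitsAb X)) : toPic X (Multiplicative.ofAdd c.cl) = pic c := clHom_cl _ _ _ c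

theorem toPic_bijective (X : Scheme.{u}) : Function.Bijective (toPic X) :=
  ⟨clHom_injective _ _ _, fun p => by
    obtain ⟨c, hc⟩ := exists_pic_eq p
    exact ⟨Multiplicative.ofAdd c.cl, (toPic_cl c).trans hc⟩⟩

/-- `H^1(X, i_* O_Z^×) → Pic Z`. -/
def toPicPush (i : Z ⟶ X) :
    Multiplicative (Sheaf.H.{u} ((CohTop.push i.base).obj (UnitsSh.unitsAb Z)) 1) →* Cube.Pic Z :=
  clHom (fun c => pic (unpush i c)) (unpush_add i)
    fun c => (pic_eq_one_iff _).trans (isTrivial_unpush_iff i c)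

theorem toPicPush_cl (i : Z ⟶ X) (c : Coc ((CohTop.push i.base).obj (UnitsSh.unitsAb Z))) :
    toPicPush i (Multiplicative.ofAdd c.cl) = pic (unpush i c) := clHom_cl _ _ _ c

theorem toPicPush_injective (i : Z ⟶ X) : Function.Injective (toPicPush i) := clHom_injective _ _ _

theorem toPicPush_surjective (i : Z ⟶ X) [IsClosedImmersion i] : Function.Surjective (toPicPush i) := by
  intro p
  induction p using Quotient.inductionOn with
  | h d =>
    by_cases hne : Nonempty d.ι
    · obtain ⟨c, hc⟩ := exists_unpush i d hne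
      exact ⟨Multiplicative.ofAdd c.cl, (toPicPush_cl i c).trans hc⟩
    · haveI := not_nonempty_iff.1 hne
      refine ⟨1, (map_one _).trans (Quotient.sound (Cube.Eqv.symm ?_))⟩
      exact Cube.eqv_of_map (c := d) (c' := Cocycle.triv Z) isEmptyElim isEmptyElim (fun _ => 1)
        (fun _ => isUnit_one) fun a => isEmptyElim a

theorem toPicPush_comap (i : Z ⟶ X) (x : Sheaf.H.{u} (UnitsSh.unitsAb X) 1) :
    toPicPush i (Multiplicative.ofAdd (Sheaf.H.map (UnitsSh.comap i) 1 x)) =
      Cube.pull i (toPic X (Multiplicative.ofAdd x)) := by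
  obtain ⟨c, rfl⟩ := exists_cl_eq x
  rw [← Coc.cl_map, toPicPush_cl, toPic_cl]
  exact pic_unpush_comap i c

/-- The class of a point of `PicSet` as a class of cocycles. -/
def picSetMap (c : PicLoc.PicSet X) : Cube.Pic X := Cube.clsMod c.2.choose_spec.2

theorem picSetMap_eq (c : PicLoc.PicSet X) {L : X.Modules} (hL : PicF.IsInvertible L) (h : c.1 = PicF.cl L) :
    picSetMap c = Cube.clsMod hL :=
  (Cube.clsMod_eq_iff _ hL).2 ((PicGrp.cl_eq_cl_iff _ _).1 (c.2.choose_spec.1.trans h))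

theorem picSetMap_bijective (X : Scheme.{u}) : Function.Bijective (picSetMap (X := X)) := by
  constructor
  · intro a b h
    obtain ⟨L, hL, hLi⟩ := a.2
    obtain ⟨M, hM, hMi⟩ := b.2
    rw [picSetMap_eq a hLi hL.symm, picSetMap_eq b hMi hM.symm] at h
    exact Subtype.ext (hL.symm.trans (((PicGrp.cl_eq_cl_iff _ _).2 ((Cube.clsMod_eq_iff _ _).1 h)).trans hM))
  · intro p
    induction p using Quotient.inductionOn with
    | h d =>
      refine ⟨⟨PicF.cl (d.twist 1), _, rfl, d.isInvertible_twist 1⟩, ?_⟩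
      rw [picSetMap_eq _ (d.isInvertible_twist 1) rfl, Cube.clsMod_eq _ (Iso.refl (d.twist 1))]
      rfl

/-- The Picard group as classes of cocycles. -/
def picSetEquiv (X : Scheme.{u}) [PicGrp.Law X] : PicLoc.PicSet X ≃* Cube.Pic X :=
  MulEquiv.ofBijective
    (MonoidHom.mk' (picSetMap (X := X)) fun a b => by
      obtain ⟨L, hL, hLi⟩ := a.2
      obtain ⟨M, hM, hMi⟩ := b.2
      rw [picSetMap_eq a hLi hL.symm, picSetMap_eq b hMi hM.symm, ← Cube.clsMod_tensorMod]
      exact picSetMap_eq _ _ (by rw [PicGrp.mul_val, ← hL, ← hM]; rfl))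
    (picSetMap_bijective X)

theorem picSetEquiv_apply (X : Scheme.{u}) [PicGrp.Law X] (c : PicLoc.PicSet X) :
    picSetEquiv X c = picSetMap c := rfl

theorem picSetMap_pull (i : Z ⟶ X) (c : PicLoc.PicSet X) :
    picSetMap (⟨PicF.pullCl i c.1, PicLoc.isInvertibleCl_pullCl i c.2⟩ : PicLoc.PicSet Z) =
      Cube.pull i (picSetMap c) := by
  obtain ⟨L, hL, hLi⟩ := c.2
  rw [picSetMap_eq c hLi hL.symm, ← Cube.clsMod_pullback i hLi]
  refine picSetMap_eq _ _ ?_
  exact (congrArg (PicF.pullCl i) hL.symm).trans rfl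

theorem picSetEquiv_pullHom [PicGrp.Law X] [PicGrp.Law Z] (i : Z ⟶ X) (hi : PicGrp.PullMul i)
    (c : PicLoc.PicSet X) : picSetEquiv Z (PicGrp.pullHom i hi c) = Cube.pull i (picSetEquiv X c) :=
  picSetMap_pull i c

/-- `Pic X ≅ H^1(X, O^×)`. -/
def h1Equiv (X : Scheme.{u}) [PicGrp.Law X] :
    Multiplicative (Sheaf.H.{u} (UnitsSh.unitsAb X) 1) ≃* PicLoc.PicSet X :=
  (MulEquiv.ofBijective (toPic X) (toPic_bijective X)).trans (picSetEquiv X).symm

end GrothLib.PicH1
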