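import Groth.Agent.Lib.SheafCoh.Top
import Mathlib.Order.Zorn
import Mathlib.Algebra.Homology.DerivedCategory.Ext.ExactSequences
import Mathlib.CategoryTheory.Sites.EpiMono

/-!
# The class in `H^1` of a cocycle on a cover of a space

Every class comes from a cocycle, the class vanishes iff the cocycle is a coboundary on its own cover,
and the class is additive and natural.
-/

universe u

set_option backward.isDefEq.respectTransparency false

open CategoryTheory CategoryTheory.Limits TopologicalSpace Opposite Abelian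

noncomputable section

namespace GrothLib.PicH1

variable {X : TopCat.{u}}

/-- Restriction of sections. -/
abbrev rs (F : CohTop.Ab X) {U V : Opens X} (h : V ≤ U) (s : F.obj.obj (op U)) : F.obj.obj (op V) :=
  F.obj.map (homOfLE h).op s

theorem rs_rs (F : CohTop.Ab X) {U V W : Opens X} (h : V ≤ U) (h' : W ≤ V) (s : F.obj.obj (op U)) :
    rs F h' (rs F h s) = rs F (h'.trans h) s := by
  simp only [rs]
  rw [← ConcreteCategory.comp_apply, ← Functor.map_comp]
  rfl

theorem rs_self (F : CohTop.Ab X) {U : Opens X} (h : U ≤ U) (s : F.obj.obj (op U)) : rs F h s = s := by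
  show F.obj.map (𝟙 (op U)) s = s
  rw [F.obj.map_id]; rfl

theorem app_rs {F G : CohTop.Ab X} (f : F ⟶ G) {U V : Opens X} (h : V ≤ U) (s : F.obj.obj (op U)) :
    f.hom.app (op V) (rs F h s) = rs G h (f.hom.app (op U) s) :=
  NatTrans.naturality_apply f.hom (homOfLE h).op s

theorem rs_add (F : CohTop.Ab X) {U V : Opens X} (h : V ≤ U) (s t : F.obj.obj (op U)) :
    rs F h (s + t) = rs F h s + rs F h t := map_add _ s t

theorem rs_sub (F : CohTop.Ab X) {U V : Opens X} (h : V ≤ U) (s t : F.obj.obj (op U)) :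
    rs F h (s - t) = rs F h s - rs F h t := map_sub _ s t

theorem sect_ext (F : CohTop.Ab X) {κ : Type u} (W : κ → Opens X) {U : Opens X} (hW : ∀ i, W i ≤ U)
    (hc : U ≤ ⨆ i, W i) {s t : F.obj.obj (op U)} (h : ∀ i, rs F (hW i) s = rs F (hW i) t) : s = t :=
  TopCat.Sheaf.eq_of_locally_eq' (F : TopCat.Sheaf AddCommGrpCat.{u} X) W U (fun i => homOfLE (hW i)) hc s t h

theorem exists_glue (F : CohTop.Ab X) {κ : Type u} (W : κ → Opens X) {U : Opens X} (hW : ∀ i, W i ≤ U)
    (hc : U ≤ ⨆ i, W i) (s : ∀ i, F.obj.obj (op (W i)))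
    (h : ∀ i k, rs F (inf_le_left : W i ⊓ W k ≤ W i) (s i) = rs F inf_le_right (s k)) :
    ∃ t : F.obj.obj (op U), ∀ i, rs F (hW i) t = s i := by
  obtain ⟨t, ht, -⟩ := TopCat.Sheaf.existsUnique_gluing' (F : TopCat.Sheaf AddCommGrpCat.{u} X) W U
    (fun i => homOfLE (hW i)) hc s h
  exact ⟨t, ht⟩

/-- A `1`-cocycle on a cover. -/
structure Coc (F : CohTop.Ab X) where
  /-- the index type -/
  ι : Type u
  /-- the cover -/
  D : ι → Opens X
  /-- the values -/
  g : ∀ i k, F.obj.obj (op (D i ⊓ D k))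
  cover : ⨆ i, D i = ⊤
  cocycle : ∀ (i j k : ι) (W : Opens X) (hi : W ≤ D i) (hj : W ≤ D j) (hk : W ≤ D k),
    rs F (le_inf hi hk) (g i k) = rs F (le_inf hi hj) (g i j) + rs F (le_inf hj hk) (g j k)

variable {F G : CohTop.Ab X}

/-- `g` is the coboundary of `l` on the cover of the cocycle. -/
def Coc.IsBd (c : Coc F) (l : ∀ i, F.obj.obj (op (c.D i))) : Prop :=
  ∀ (i k : c.ι) (W : Opens X) (hi : W ≤ c.D i) (hk : W ≤ c.D k),
    rs F (le_inf hi hk) (c.g i k) = rs F hi (l i) - rs F hk (l k)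

/-- The cocycle is a coboundary on its own cover. -/
def Coc.IsTrivial (c : Coc F) : Prop := ∃ l, c.IsBd l

/-- The sum of two cocycles, on the product cover. -/
def Coc.add (c d : Coc F) : Coc F where
  ι := c.ι × d.ι
  D p := c.D p.1 ⊓ d.D p.2
  g p q := rs F (inf_le_inf inf_le_left inf_le_left) (c.g p.1 q.1) +
    rs F (inf_le_inf inf_le_right inf_le_right) (d.g p.2 q.2)
  cover := by rw [iSup_prod, ← c.cover]; simp only [← inf_iSup_eq, d.cover, inf_top_eq]
  cocycle p q r W hp hq hr := by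
    simp only [rs, map_add, ← ConcreteCategory.comp_apply, ← Functor.map_comp]
    have h1 := c.cocycle p.1 q.1 r.1 W (hp.trans inf_le_left) (hq.trans inf_le_left) (hr.trans inf_le_left)
    have h2 := d.cocycle p.2 q.2 r.2 W (hp.trans inf_le_right) (hq.trans inf_le_right) (hr.trans inf_le_right)
    exact (congrArg₂ (· + ·) h1 h2).trans (add_add_add_comm _ _ _ _)

/-- The image of a cocycle under a morphism. -/
def Coc.map (f : F ⟶ G) (c : Coc F) : Coc G where
  ι := c.ι
  D := c.D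
  g i k := f.hom.app _ (c.g i k)
  cover := c.cover
  cocycle i j k W hi hj hk := by
    rw [← app_rs, ← app_rs, ← app_rs, c.cocycle i j k W hi hj hk, map_add]

section Injective

variable (I : CohTop.Ab X) [Injective I]

private structure Partial (c : Coc I) where
  J : Set c.ι
  a : ∀ i, I.obj.obj (op (c.D i))
  comp : ∀ i ∈ J, ∀ k ∈ J, ∀ (W : Opens X) (hi : W ≤ c.D i) (hk : W ≤ c.D k),
    rs I (le_inf hi hk) (c.g i k) = rs I hi (a i) - rs I hk (a k)

private instance (c : Coc I) : Preorder (Partial I c) where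
  le P Q := P.J ⊆ Q.J ∧ ∀ i ∈ P.J, P.a i = Q.a i
  le_refl P := ⟨subset_rfl, fun _ _ => rfl⟩
  le_trans P Q R h h' := ⟨h.1.trans h'.1, fun i hi => (h.2 i hi).trans (h'.2 i (h.1 hi))⟩

/-- Cocycles with values in an injective sheaf are coboundaries. -/
theorem isTrivial_of_injective (c : Coc I) : c.IsTrivial := by
  classical
  have hbd : ∀ C : Set (Partial I c), IsChain (· ≤ ·) C → BddAbove C := by
    intro C hC
    let J : Set c.ι := {i | ∃ P ∈ C, i ∈ P.J}
    let a : ∀ i, I.obj.obj (op (c.D i)) := fun i => if h : i ∈ J then h.choose.a i else 0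
    have ha : ∀ P ∈ C, ∀ i ∈ P.J, a i = P.a i := by
      intro P hP i hi
      have h : i ∈ J := ⟨P, hP, hi⟩
      simp only [a, dif_pos h]
      obtain ⟨hQ, hiQ⟩ := h.choose_spec
      rcases hC.total hQ hP with hle | hle
      · exact hle.2 i hiQ
      · exact (hle.2 i hi).symm
    refine ⟨⟨J, a, ?_⟩, fun P hP => ⟨fun i hi => ⟨P, hP, hi⟩, fun i hi => (ha P hP i hi).symm⟩⟩
    rintro i ⟨P, hP, hi⟩ k ⟨Q, hQ, hk⟩ W hiW hkW
    rcases hC.total hP hQ with hle | hle
    · rw [ha Q hQ i (hle.1 hi), ha Q hQ k hk]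
      exact Q.comp i (hle.1 hi) k hk W hiW hkW
    · rw [ha P hP i hi, ha P hP k (hle.1 hk)]
      exact P.comp i hi k (hle.1 hk) W hiW hkW
  obtain ⟨M, hM⟩ := zorn_le hbd
  suffices hall : ∀ k, k ∈ M.J from ⟨M.a, fun i k W hi hk => M.comp i (hall i) k (hall k) W hi hk⟩
  intro k
  by_contra hkJ
  let W : M.J → Opens X := fun i => c.D i.1 ⊓ c.D k
  let t : ∀ i : M.J, I.obj.obj (op (W i)) := fun i => rs I inf_le_left (M.a i.1) - c.g i.1 k
  have ht : ∀ i j : M.J, rs I (inf_le_left : W i ⊓ W j ≤ W i) (t i) = rs I inf_le_right (t j) := by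
    intro i j
    let T := W i ⊓ W j
    have hi : T ≤ c.D i.1 := inf_le_left.trans inf_le_left
    have hj : T ≤ c.D j.1 := inf_le_right.trans inf_le_left
    have hk : T ≤ c.D k := inf_le_left.trans inf_le_right
    have e1 := M.comp i.1 i.2 j.1 j.2 T hi hj
    have e2 := c.cocycle i.1 j.1 k T hi hj hk
    simp only [t]
    rw [rs_sub, rs_sub, rs_rs]
    simp only [rs_rs]
    show rs I hi (M.a i.1) - rs I (le_inf hi hk) (c.g i.1 k) = rs I hj (M.a j.1) - rs I (le_inf hj hk) (c.g j.1 k)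
    rw [e2, e1]
    abel
  obtain ⟨x₀, hx₀⟩ := exists_glue I W (fun i => le_iSup W i) le_rfl t ht
  have hUk : (⨆ i, W i) ≤ c.D k := iSup_le fun i => inf_le_right
  obtain ⟨x, hx⟩ := GrothLib.SheafCoh.restriction_surjective_of_injective I (homOfLE hUk) x₀
  have hxi : ∀ i (hiJ : i ∈ M.J) (V : Opens X) (hi : V ≤ c.D i) (hk : V ≤ c.D k),
      rs I (le_inf hi hk) (c.g i k) = rs I hi (M.a i) - rs I hk x := by
    intro i hiJ V hi hk
    have h : rs I (le_inf hi hk : V ≤ W ⟨i, hiJ⟩) (rs I (le_iSup W ⟨i, hiJ⟩) x₀) =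
        rs I (le_inf hi hk : V ≤ W ⟨i, hiJ⟩) (t ⟨i, hiJ⟩) := congrArg _ (hx₀ ⟨i, hiJ⟩)
    rw [rs_rs, ← (show rs I hUk x = x₀ from hx), rs_rs] at h
    simp only [t, rs, map_sub, ← ConcreteCategory.comp_apply, ← Functor.map_comp] at h
    change rs I hk x = rs I hi (M.a i) - rs I (le_inf hi hk) (c.g i k) at h
    rw [h]
    abel
  have hkk : ∀ (V : Opens X) (hk : V ≤ c.D k), rs I (le_inf hk hk) (c.g k k) = 0 := fun V hk =>
    add_eq_left.1 (c.cocycle k k k V hk hk hk).symm
  let a' := Function.update M.a k x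
  have hak : a' k = x := Function.update_self ..
  have hai : ∀ i ∈ M.J, a' i = M.a i := fun i hi =>
    Function.update_of_ne (by rintro rfl; exact hkJ hi) ..
  let M' : Partial I c := ⟨insert k M.J, a', by
    intro i hi j hj V hiV hjV
    rcases Set.mem_insert_iff.1 hi with h | hi <;> rcases Set.mem_insert_iff.1 hj with h' | hj
    · subst i; subst j; rw [hak, sub_self]; exact hkk V hiV
    · subst i
      rw [hak, hai j hj]
      have e := c.cocycle k j k V hiV hjV hiV
      rw [hkk V hiV, hxi j hj V hjV hiV] at e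
      exact eq_of_sub_eq_zero (by rw [← sub_eq_zero.2 e.symm]; abel)
    · subst j; rw [hak, hai i hi]; exact hxi i hi V hiV hjV
    · rw [hai i hi, hai j hj]; exact M.comp i hi j hj V hiV hjV⟩
  exact hkJ ((hM (show M ≤ M' from ⟨Set.subset_insert _ _, fun i hi => (hai i hi).symm⟩)).1 (Set.mem_insert k M.J))

end Injective

variable (F) in
/-- The embedding of a sheaf into an injective one. -/
abbrev ses : ShortComplex (CohTop.Ab X) :=
  ShortComplex.mk (Injective.ι F) (cokernel.π (Injective.ι F)) (cokernel.condition _)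

theorem ses_shortExact (F : CohTop.Ab X) : (ses F).ShortExact where
  exact := ShortComplex.exact_of_g_is_cokernel _ (cokernelIsCokernel (Injective.ι F))
  mono_f := inferInstanceAs (Mono (Injective.ι F))
  epi_g := inferInstanceAs (Epi (cokernel.π (Injective.ι F)))

theorem app_ι_injective (F : CohTop.Ab X) (V : Opens X) :
    Function.Injective ((ses F).f.hom.app (op V)) := by
  haveI := (ses_shortExact F).mono_f
  let G := sheafToPresheaf (Opens.grothendieckTopology X) AddCommGrpCat.{u} ⋙ (evaluation _ _).obj (op V)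
  haveI : PreservesLimits G := comp_preservesLimits _ _
  haveI : PreservesLimitsOfSize.{0, 0} G := preservesLimitsOfSize_shrink.{0, u, 0, u} _
  exact (AddCommGrpCat.mono_iff_injective _).1 (inferInstance : Mono (G.map (ses F).f))

theorem exists_app_ι_eq (F : CohTop.Ab X) (V : Opens X) (a : (ses F).X₂.obj.obj (op V))
    (ha : (ses F).g.hom.app (op V) a = 0) : ∃ b, (ses F).f.hom.app (op V) b = a := by
  let G := sheafToPresheaf (Opens.grothendieckTopology X) AddCommGrpCat.{u} ⋙ (evaluation _ _).obj (op V)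
  haveI : PreservesLimits G := comp_preservesLimits _ _
  haveI : PreservesLimitsOfSize.{0, 0} G := preservesLimitsOfSize_shrink.{0, u, 0, u} _
  haveI : G.PreservesZeroMorphisms := ⟨fun A B => rfl⟩
  haveI := (ses_shortExact F).mono_f
  have h := ((ses_shortExact F).exact.map_of_mono_of_preservesKernel G inferInstance inferInstance)
  rw [ShortComplex.ab_exact_iff] at h
  exact h a ha

/-- The connecting map `Q(X) ⟶ H^1(X, F)`. -/
def δ (F : CohTop.Ab X) : (ses F).X₃.obj.obj (op ⊤) →+ Sheaf.H.{u} F 1 :=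
  ((ses_shortExact F).extClass.postcomp _ (show 0 + 1 = 1 from rfl)).comp
    (Sheaf.H.equiv₀ (ses F).X₃ (isTerminalTop (α := Opens X))).symm.toAddMonoidHom

theorem δ_apply (F : CohTop.Ab X) (s : (ses F).X₃.obj.obj (op ⊤)) :
    δ F s = ((Sheaf.H.equiv₀ (ses F).X₃ (isTerminalTop (α := Opens X))).symm s).comp
      (ses_shortExact F).extClass (show 0 + 1 = 1 from rfl) := rfl

theorem δ_eq_zero_iff (F : CohTop.Ab X) (s : (ses F).X₃.obj.obj (op ⊤)) :
    δ F s = 0 ↔ ∃ b, (ses F).g.hom.app (op ⊤) b = s := by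
  rw [δ_apply]
  constructor
  · intro h
    obtain ⟨y, hy⟩ := Ext.covariant_sequence_exact₃ _ (ses_shortExact F) _ _ h
    refine ⟨Sheaf.H.equiv₀ (ses F).X₂ (isTerminalTop (α := Opens X)) y, ?_⟩
    rw [Sheaf.H.equiv₀_naturality]
    exact ((congrArg _ hy).trans (AddEquiv.apply_symm_apply _ s))
  · rintro ⟨b, rfl⟩
    rw [← Sheaf.H.equiv₀_symm_naturality, Sheaf.H.map_apply, Ext.comp_assoc_of_second_deg_zero,
      (ses_shortExact F).comp_extClass, Ext.comp_zero]

theorem δ_surjective (F : CohTop.Ab X) : Function.Surjective (δ F) := by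
  intro x
  haveI : Subsingleton (Sheaf.H.{u} (ses F).X₂ 1) :=
    inferInstanceAs (Subsingleton (Sheaf.H.{u} (Injective.under F) (0 + 1)))
  obtain ⟨y, hy⟩ := Ext.covariant_sequence_exact₁ _ (ses_shortExact F) x (Subsingleton.elim _ _)
    (show 0 + 1 = 1 from rfl)
  exact ⟨Sheaf.H.equiv₀ (ses F).X₃ (isTerminalTop (α := Opens X)) y, by rw [δ_apply, AddEquiv.symm_apply_apply, hy]⟩

/-- `a` lifts the section `s` and has coboundary the cocycle. -/
def Coc.Lift (c : Coc F) (a : ∀ i, (ses F).X₂.obj.obj (op (c.D i))) (s : (ses F).X₃.obj.obj (op ⊤)) : Prop :=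
  (c.map (ses F).f).IsBd a ∧ ∀ i, (ses F).g.hom.app (op (c.D i)) (a i) = rs (ses F).X₃ le_top s

theorem Coc.exists_lift (c : Coc F) : ∃ a s, c.Lift a s := by
  obtain ⟨a, ha⟩ := isTrivial_of_injective (Injective.under F) (c.map (ses F).f)
  obtain ⟨s, hs⟩ := exists_glue (ses F).X₃ c.D (U := ⊤) (fun _ => le_top) c.cover.ge
    (fun i => (ses F).g.hom.app (op (c.D i)) (a i)) fun i k => by
      have h := congrArg ((ses F).g.hom.app (op (c.D i ⊓ c.D k))) (ha i k _ inf_le_left inf_le_right)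
      rw [← app_rs, ← app_rs]
      rw [map_sub] at h
      refine eq_of_sub_eq_zero (h.symm.trans ?_)
      have z : ∀ b, (ses F).g.hom.app (op (c.D i ⊓ c.D k)) ((ses F).f.hom.app (op (c.D i ⊓ c.D k)) b) = 0 :=
        fun b => ConcreteCategory.congr_hom
          (congrArg (fun q : (ses F).X₁ ⟶ (ses F).X₃ => q.hom.app (op (c.D i ⊓ c.D k))) (ses F).zero) b
      show (ses F).g.hom.app _ (rs (ses F).X₂ _ ((ses F).f.hom.app _ (c.g i k))) = 0
      rw [← app_rs]
      exact z _
  exact ⟨a, s, ha, fun i => (hs i).symm⟩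

/-- The class of a cocycle. -/
def Coc.cl (c : Coc F) : Sheaf.H.{u} F 1 := δ F c.exists_lift.choose_spec.choose

theorem Coc.cl_eq (c : Coc F) {a : ∀ i, (ses F).X₂.obj.obj (op (c.D i))} {s : (ses F).X₃.obj.obj (op ⊤)}
    (h : c.Lift a s) : c.cl = δ F s := by
  have h' := c.exists_lift.choose_spec.choose_spec
  set a' := c.exists_lift.choose
  set s' := c.exists_lift.choose_spec.choose
  obtain ⟨b, hb⟩ := exists_glue (ses F).X₂ c.D (U := ⊤) (fun _ => le_top) c.cover.ge (fun i => a' i - a i)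
    fun i k => by
      rw [rs, rs, map_sub, map_sub]
      have e1 := h'.1 i k _ inf_le_left inf_le_right
      have e2 := h.1 i k _ inf_le_left inf_le_right
      rw [sub_eq_sub_iff_sub_eq_sub]
      exact e1.symm.trans e2
  refine eq_of_sub_eq_zero ?_
  show δ F s' - δ F s = 0
  rw [← map_sub, δ_eq_zero_iff]
  refine ⟨b, sect_ext (ses F).X₃ c.D (fun _ => le_top) c.cover.ge fun i => ?_⟩
  rw [← app_rs, hb i, map_sub, h'.2 i, h.2 i]
  exact (map_sub _ _ _).symm

theorem Coc.cl_eq_zero_iff (c : Coc F) : c.cl = 0 ↔ c.IsTrivial := by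
  constructor
  · intro h0
    obtain ⟨a, s, ha⟩ := c.exists_lift
    rw [c.cl_eq ha, δ_eq_zero_iff] at h0
    obtain ⟨b, hb⟩ := h0
    choose l hl using fun i => exists_app_ι_eq F (c.D i) (a i - rs (ses F).X₂ le_top b)
      (by rw [map_sub, app_rs, hb, ha.2 i, sub_self])
    refine ⟨l, fun i k W hi hk => app_ι_injective F W ?_⟩
    rw [map_sub, app_rs, app_rs, app_rs, hl i, hl k]
    simp only [rs, map_sub, ← ConcreteCategory.comp_apply, ← Functor.map_comp]
    have e := ha.1 i k W hi hk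
    refine e.trans ?_
    exact (sub_sub_sub_cancel_right _ _ _).symm
  · rintro ⟨l, hl⟩
    have hL : c.Lift (fun i => (ses F).f.hom.app _ (l i)) 0 := by
      refine ⟨fun i k W hi hk => ?_, fun i => ?_⟩
      · show rs (ses F).X₂ _ ((ses F).f.hom.app _ (c.g i k)) = _
        exact (app_rs _ _ _).symm.trans ((congrArg _ (hl i k W hi hk)).trans
          ((map_sub _ _ _).trans (congrArg₂ (· - ·) (app_rs _ _ _) (app_rs _ _ _))))
      · refine Eq.trans ?_ (map_zero _).symm
        exact ConcreteCategory.congr_hom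
          (congrArg (fun q : (ses F).X₁ ⟶ (ses F).X₃ => q.hom.app (op (c.D i))) (ses F).zero) (l i)
    rw [c.cl_eq hL, map_zero]

theorem Coc.cl_add (c d : Coc F) : (c.add d).cl = c.cl + d.cl := by
  obtain ⟨a, s, ha⟩ := c.exists_lift
  obtain ⟨b, t, hb⟩ := d.exists_lift
  have hL : (c.add d).Lift (fun p => rs (ses F).X₂ inf_le_left (a p.1) + rs (ses F).X₂ inf_le_right (b p.2))
      (s + t) := by
    refine ⟨fun p q W hp hq => ?_, fun p => ?_⟩
    · show rs (ses F).X₂ _ ((ses F).f.hom.app _ (rs F _ (c.g p.1 q.1) + rs F _ (d.g p.2 q.2))) = _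
      simp only [map_add, app_rs, rs_rs, rs_add]
      refine Eq.trans ?_ (add_sub_add_comm _ _ _ _).symm
      exact congrArg₂ (· + ·) (ha.1 p.1 q.1 W (hp.trans inf_le_left) (hq.trans inf_le_left))
        (hb.1 p.2 q.2 W (hp.trans inf_le_right) (hq.trans inf_le_right))
    · rw [map_add, app_rs, app_rs, ha.2, hb.2, rs_rs, rs_rs]
      exact (map_add _ _ _).symm
  rw [(c.add d).cl_eq hL, c.cl_eq ha, d.cl_eq hb, map_add]

theorem exists_cl_eq (x : Sheaf.H.{u} F 1) : ∃ c : Coc F, c.cl = x := by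
  obtain ⟨s, rfl⟩ := δ_surjective F x
  haveI : Epi (ses F).g := (ses_shortExact F).epi_g
  haveI : Sheaf.IsLocallySurjective (ses F).g :=
    (Sheaf.isLocallySurjective_iff_epi' (A := AddCommGrpCat.{u}) (ses F).g).2 inferInstance
  have hloc : ∀ x : X, ∃ (W : Opens X) (a : (ses F).X₂.obj.obj (op W)), x ∈ W ∧
      (ses F).g.hom.app (op W) a = rs (ses F).X₃ le_top s := fun x => by
    obtain ⟨W, i, ⟨a, ha⟩, hxW⟩ := Presheaf.imageSieve_mem (Opens.grothendieckTopology X) (ses F).g.hom s x trivial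
    exact ⟨W, a, hxW, ha⟩
  choose W a hxW ha using hloc
  choose g hg using fun x y : X => exists_app_ι_eq F (W x ⊓ W y)
    (rs (ses F).X₂ inf_le_left (a x) - rs (ses F).X₂ inf_le_right (a y))
    (by rw [map_sub, app_rs, app_rs, ha, ha, rs_rs, rs_rs, sub_self])
  have hg' : ∀ x y V (hx : V ≤ W x) (hy : V ≤ W y), (ses F).f.hom.app (op V) (rs F (le_inf hx hy) (g x y)) =
      rs (ses F).X₂ hx (a x) - rs (ses F).X₂ hy (a y) := fun x y V hx hy => by
    rw [app_rs, hg]
    simp only [rs, map_sub, ← ConcreteCategory.comp_apply, ← Functor.map_comp]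
    rfl
  let c : Coc F :=
    { ι := X, D := W, g := g
      cover := top_le_iff.1 fun x _ => Opens.mem_iSup.2 ⟨x, hxW x⟩
      cocycle := fun x y z V hx hy hz => app_ι_injective F V (by
        rw [map_add, hg' x z V hx hz, hg' x y V hx hy, hg' y z V hy hz]; abel) }
  refine ⟨c, c.cl_eq (a := a) ⟨fun x y V hx hy => ?_, ha⟩⟩
  exact (app_rs (ses F).f (le_inf hx hy) (g x y)).symm.trans (hg' x y V hx hy)

theorem Coc.cl_map (f : F ⟶ G) (c : Coc F) : (c.map f).cl = Sheaf.H.map f 1 c.cl := by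
  obtain ⟨a, s, ha⟩ := c.exists_lift
  let τ₂ : Injective.under F ⟶ Injective.under G := Injective.factorThru (f ≫ Injective.ι G) (Injective.ι F)
  have h₂ : Injective.ι F ≫ τ₂ = f ≫ Injective.ι G := Injective.comp_factorThru _ _
  let τ₃ : (ses F).X₃ ⟶ (ses G).X₃ := cokernel.map (Injective.ι F) (Injective.ι G) f τ₂ h₂
  let φ : ses F ⟶ ses G :=
    { τ₁ := f, τ₂ := τ₂, τ₃ := τ₃, comm₁₂ := h₂.symm, comm₂₃ := by simp [τ₃] }
  have hL : (c.map f).Lift (fun i => τ₂.hom.app _ (a i)) (τ₃.hom.app _ s) := by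
    refine ⟨fun i k W hi hk => ?_, fun i => ?_⟩
    · have e : ∀ (V : Opens X) (y : F.obj.obj (op V)),
          τ₂.hom.app (op V) ((ses F).f.hom.app (op V) y) = (ses G).f.hom.app (op V) (f.hom.app (op V) y) :=
        fun V y => ConcreteCategory.congr_hom
          (congrArg (fun q : (ses F).X₁ ⟶ (ses G).X₂ => q.hom.app (op V)) h₂) y
      show rs (ses G).X₂ _ ((ses G).f.hom.app _ (f.hom.app _ (c.g i k))) = _
      rw [← e]
      exact (app_rs τ₂ _ _).symm.trans ((congrArg _ (ha.1 i k W hi hk)).trans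
        ((map_sub _ _ _).trans (congrArg₂ (· - ·) (app_rs _ _ _) (app_rs _ _ _))))
    · refine Eq.trans ?_ ((congrArg (τ₃.hom.app (op (c.D i))) (ha.2 i)).trans (app_rs τ₃ le_top s))
      exact (ConcreteCategory.congr_hom
        (congrArg (fun q : (ses F).X₂ ⟶ (ses G).X₃ => q.hom.app (op (c.D i))) φ.comm₂₃) (a i))
  rw [(c.map f).cl_eq hL, c.cl_eq ha, δ_apply, δ_apply, ← Sheaf.H.equiv₀_symm_naturality, Sheaf.H.map_apply,
    Sheaf.H.map_apply, Ext.comp_assoc_of_second_deg_zero, Ext.comp_assoc_of_third_deg_zero,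
    (ses_shortExact F).extClass_naturality (ses_shortExact G) φ]

end GrothLib.PicH1
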