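import Groth.Agent.Lib.PicH1.Class
import Groth.Agent.Lib.Cube.Pic
import Groth.Prelude.Def_UnitsSh

/-!
# Cocycles of units and invertible modules
-/

universe u

open CategoryTheory CategoryTheory.Limits AlgebraicGeometry TopologicalSpace Opposite
open GrothLib.Ample

set_option backward.isDefEq.respectTransparency false

noncomputable section

namespace GrothLib.PicH1

variable {X Z : Scheme.{u}}

/-- The function underlying a section of the sheaf of units. -/
def uval {U : X.Opens} (s : (UnitsSh.unitsAb X).obj.obj (op U)) : Γ(X, U) :=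
  ((UnitsSh.unitOfSect (O := X.presheaf) s : (Γ(X, U))ˣ) : Γ(X, U))

/-- A unit as a section of the sheaf of units. -/
def usect {U : X.Opens} (v : (Γ(X, U))ˣ) : (UnitsSh.unitsAb X).obj.obj (op U) :=
  UnitsSh.sectOfUnit (O := X.presheaf) v

theorem uval_usect {U : X.Opens} (v : (Γ(X, U))ˣ) : uval (usect v) = v := rfl

theorem uval_add {U : X.Opens} (s t : (UnitsSh.unitsAb X).obj.obj (op U)) :
    uval (s + t) = uval s * uval t := rfl

theorem uval_zero (U : X.Opens) : uval (0 : (UnitsSh.unitsAb X).obj.obj (op U)) = 1 := rfl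

theorem isUnit_uval {U : X.Opens} (s : (UnitsSh.unitsAb X).obj.obj (op U)) : IsUnit (uval s) :=
  ⟨UnitsSh.unitOfSect (O := X.presheaf) s, rfl⟩

theorem uval_injective {U : X.Opens} : Function.Injective (uval (X := X) (U := U)) := fun s t h => by
  show UnitsSh.sectOfUnit (O := X.presheaf) (UnitsSh.unitOfSect s) =
    UnitsSh.sectOfUnit (O := X.presheaf) (UnitsSh.unitOfSect t)
  exact congrArg _ (Units.ext h)

theorem uval_rs {U V : X.Opens} (h : V ≤ U) (s : (UnitsSh.unitsAb X).obj.obj (op U)) :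
    uval (rs (UnitsSh.unitsAb X) h s) = res h (uval s) := rfl

/-- The sum equation of units as a product. -/
theorem uval_sub_iff {U : X.Opens} (a b c : (UnitsSh.unitsAb X).obj.obj (op U)) :
    a = b - c ↔ uval a * uval c = uval b := by
  rw [eq_sub_iff_add_eq, ← uval_add]
  exact uval_injective.eq_iff.symm

/-- The cocycle of transition functions. -/
def toCocycle (c : Coc (UnitsSh.unitsAb X)) : Cocycle X where
  ι := c.ι
  D := c.D
  g i k := uval (c.g i k)
  cover := c.cover
  self i W h := by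
    have e : rs (UnitsSh.unitsAb X) (le_inf h h) (c.g i i) = 0 :=
      add_eq_left.1 (c.cocycle i i i W h h h).symm
    exact (congrArg uval e).trans (uval_zero W)
  change i j k W hi hj hk := congrArg uval (c.cocycle i j k W hi hj hk)

theorem toCocycle_G (c : Coc (UnitsSh.unitsAb X)) (i k : c.ι) {W : X.Opens} (hi : W ≤ c.D i) (hk : W ≤ c.D k) :
    (toCocycle c).G i k hi hk = uval (rs (UnitsSh.unitsAb X) (le_inf hi hk) (c.g i k)) := rfl

/-- The class in the Picard group of a cocycle of units. -/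
def pic (c : Coc (UnitsSh.unitsAb X)) : Cube.Pic X := Cube.cls (toCocycle c)

theorem pic_add (c d : Coc (UnitsSh.unitsAb X)) : pic (c.add d) = pic c * pic d := by
  rw [pic, pic, pic, ← Cube.cls_prod]
  refine Quotient.sound (Cube.eqv_of_map (c := toCocycle (c.add d)) (c' := (toCocycle c).prod (toCocycle d))
    id (fun _ => le_rfl) (fun _ => 1) (fun _ => isUnit_one) fun p q O hp hq => ?_)
  rw [map_one, map_one, one_mul, mul_one, Cocycle.prod_G]
  show _ = uval (rs _ _ (rs _ _ (c.g p.1 q.1) + rs _ _ (d.g p.2 q.2)))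
  rw [rs_add, uval_add, uval_rs, uval_rs, uval_rs, uval_rs, res_res, res_res]
  rfl

theorem pic_eq_one_iff (c : Coc (UnitsSh.unitsAb X)) : pic c = 1 ↔ c.IsTrivial := by
  rw [pic, Cube.cls_eq_one_iff]
  constructor
  · rintro ⟨a, ha⟩
    have hu : ∀ i, IsUnit (res (le_inf le_top le_rfl) (a.1 i) : Γ(X, c.D i)) := fun i => by
      refine IsUnit.map (res (le_inf le_top le_rfl)) ?_
      have hb : X.basicOpen (a.1 i) = ⊤ ⊓ c.D i := by
        have e := (toCocycle c).locus_inf_D a i
        rw [ha] at e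
        exact e.symm
      refine X.toRingedSpace.isUnit_of_isUnit_germ _ (a.1 i) fun x hx => ?_
      refine (X.toRingedSpace.mem_basicOpen (a.1 i) x hx).1 ?_
      show x ∈ X.basicOpen (a.1 i)
      rw [hb]
      exact hx
    refine ⟨fun i => usect (hu i).unit, fun i k W hi hk => (uval_sub_iff _ _ _).2 ?_⟩
    rw [uval_rs, uval_rs, uval_rs, uval_usect, uval_usect, IsUnit.unit_spec, IsUnit.unit_spec, res_res, res_res]
    have e := (toCocycle c).sect_spec a i k (W := W) (le_inf le_top hi) (le_inf le_top hk)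
    rw [pow_one] at e
    exact e.symm
  · rintro ⟨l, hl⟩
    refine ⟨⟨fun i => res inf_le_right (uval (l i)), fun i k W hi hk => ?_⟩,
      (toCocycle c).locus_eq_top_of_isUnit _ fun i => (isUnit_uval _).map _⟩
    show res hi (res inf_le_right (uval (l i))) = res _ (uval (c.g i k)) ^ 1 * res hk (res inf_le_right (uval (l k)))
    rw [res_res, res_res, pow_one]
    exact ((uval_sub_iff _ _ _).1 (hl i k W (hi.trans inf_le_right) (hk.trans inf_le_right))).symm

theorem exists_pic_eq (p : Cube.Pic X) : ∃ c, pic c = p := by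
  induction p using Quotient.inductionOn with
  | h d =>
    let c : Coc (UnitsSh.unitsAb X) :=
      { ι := d.ι, D := d.D
        g := fun i k => usect (d.isUnit_G i k (inf_le_left : d.D i ⊓ d.D k ≤ d.D i) inf_le_right).unit
        cover := d.cover
        cocycle := fun i j k W hi hj hk => uval_injective (by
          rw [uval_add, uval_rs, uval_rs, uval_rs, uval_usect, uval_usect, uval_usect, IsUnit.unit_spec,
            IsUnit.unit_spec, IsUnit.unit_spec, d.res_G, d.res_G, d.res_G]
          exact d.G_trans i j k hi hj hk) }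
    refine ⟨c, Quotient.sound (Cube.eqv_of_map (c := toCocycle c) (c' := d) id (fun _ => le_rfl) (fun _ => 1)
      (fun _ => isUnit_one) fun i k O hi hk => ?_)⟩
    rw [map_one, map_one, one_mul, mul_one, toCocycle_G, uval_rs, uval_usect, IsUnit.unit_spec, d.res_G]
    rfl

/-- Preimage of opens under a morphism of schemes, as opens. -/
abbrev pre (i : Z ⟶ X) (U : X.Opens) : Z.Opens := i ⁻¹ᵁ U

/-- A cocycle with values in a pushforward is a cocycle on the source. -/
def unpush (i : Z ⟶ X) (c : Coc ((CohTop.push i.base).obj (UnitsSh.unitsAb Z))) :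
    Coc (UnitsSh.unitsAb Z) where
  ι := c.ι
  D k := pre i (c.D k)
  g a b := c.g a b
  cover := top_le_iff.1 fun z _ => by
    obtain ⟨k, hk⟩ := Opens.mem_iSup.1 (c.cover.ge (Set.mem_univ (i.base z)))
    exact Opens.mem_iSup.2 ⟨k, hk⟩
  cocycle a b d W ha hb hd := by
    have e := c.cocycle a b d (c.D a ⊓ c.D b ⊓ c.D d) (inf_le_left.trans inf_le_left)
      (inf_le_left.trans inf_le_right) inf_le_right
    have hW : W ≤ pre i (c.D a ⊓ c.D b ⊓ c.D d) := le_inf (le_inf ha hb) hd
    have e' := congrArg (rs (UnitsSh.unitsAb Z) hW) e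
    refine Eq.trans ?_ (e'.trans ((rs_add _ hW _ _).trans (congrArg₂ (· + ·) ?_ ?_)))
    · exact (rs_rs (UnitsSh.unitsAb Z) _ hW (c.g a d)).symm
    · exact rs_rs (UnitsSh.unitsAb Z) _ hW (c.g a b)
    · exact rs_rs (UnitsSh.unitsAb Z) _ hW (c.g b d)

theorem isTrivial_unpush_iff (i : Z ⟶ X) (c : Coc ((CohTop.push i.base).obj (UnitsSh.unitsAb Z))) :
    (unpush i c).IsTrivial ↔ c.IsTrivial := by
  constructor
  · rintro ⟨l, hl⟩
    exact ⟨l, fun a b W ha hb => hl a b (pre i W) (fun z hz => ha hz) (fun z hz => hb hz)⟩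
  · rintro ⟨l, hl⟩
    refine ⟨l, fun a b W ha hb => ?_⟩
    have hW : W ≤ pre i (c.D a ⊓ c.D b) := le_inf ha hb
    have e := congrArg (rs (UnitsSh.unitsAb Z) hW) (hl a b _ inf_le_left inf_le_right)
    refine Eq.trans ?_ (e.trans ((rs_sub _ hW _ _).trans (congrArg₂ (· - ·) ?_ ?_)))
    · exact (rs_rs (UnitsSh.unitsAb Z) _ hW (c.g a b)).symm
    · exact rs_rs (UnitsSh.unitsAb Z) _ hW (l a)
    · exact rs_rs (UnitsSh.unitsAb Z) _ hW (l b)

theorem unpush_add (i : Z ⟶ X) (c d : Coc ((CohTop.push i.base).obj (UnitsSh.unitsAb Z))) :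
    pic (unpush i (c.add d)) = pic (unpush i c) * pic (unpush i d) := by
  rw [← pic_add]
  rfl

theorem pic_unpush_comap (i : Z ⟶ X) (c : Coc (UnitsSh.unitsAb X)) :
    pic (unpush i (c.map (UnitsSh.comap i))) = Cube.pull i (pic c) := by
  rw [pic, pic, Cube.pull_cls]
  refine Quotient.sound (Cube.eqv_of_map (c := toCocycle (unpush i (c.map (UnitsSh.comap i))))
    (c' := (toCocycle c).comap i) id (fun _ => le_rfl) (fun _ => 1) (fun _ => isUnit_one) fun a b O ha hb => ?_)
  rw [map_one, map_one, one_mul, mul_one, Cocycle.comap_G]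
  show _ = res _ (i.app _ (uval (c.g a b)))
  rw [Scheme.Hom.appLE]
  rfl

theorem exists_unpush (i : Z ⟶ X) [IsClosedImmersion i] (d : Cocycle Z) (hne : Nonempty d.ι) :
    ∃ c, pic (unpush i c) = Cube.cls d := by
  let κ : Type u := {p : X.Opens × d.ι // pre i p.1 ≤ d.D p.2}
  have hcov : ⨆ p : κ, p.1.1 = ⊤ := by
    refine top_le_iff.1 fun x _ => ?_
    by_cases hx : x ∈ Set.range i.base
    · obtain ⟨z, rfl⟩ := hx
      obtain ⟨k, hk⟩ := d.exists_mem z
      obtain ⟨V, hVo, hV⟩ := i.isClosedEmbedding.isInducing.isOpen_iff.1 (d.D k).isOpen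
      refine Opens.mem_iSup.2 ⟨⟨(⟨V, hVo⟩, k), fun w hw => ?_⟩, ?_⟩
      · show w ∈ (d.D k : Set Z)
        rw [← hV]
        exact hw
      · show i.base z ∈ V
        have : z ∈ i.base ⁻¹' V := by rw [hV]; exact hk
        exact this
    · obtain ⟨k⟩ := hne
      exact Opens.mem_iSup.2 ⟨⟨(⟨(Set.range i.base)ᶜ, i.isClosedEmbedding.isClosed_range.isOpen_compl⟩, k),
        fun w hw => absurd (Set.mem_range_self w) hw⟩, hx⟩
  let c : Coc ((CohTop.push i.base).obj (UnitsSh.unitsAb Z)) :=
    { ι := κ, D := fun p => p.1.1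
      g := fun p q => usect (d.isUnit_G p.1.2 q.1.2 (W := pre i (p.1.1 ⊓ q.1.1))
        (fun z hz => p.2 hz.1) (fun z hz => q.2 hz.2)).unit
      cover := hcov
      cocycle := fun p q r W hp hq hr => uval_injective (X := Z) (U := pre i W) (by
        show res _ (uval (usect _)) = res _ (uval (usect _)) * res _ (uval (usect _))
        rw [uval_usect, uval_usect, uval_usect, IsUnit.unit_spec, IsUnit.unit_spec, IsUnit.unit_spec,
          d.res_G, d.res_G, d.res_G]
        exact d.G_trans p.1.2 q.1.2 r.1.2 _ _ _) }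
  refine ⟨c, Quotient.sound (Cube.eqv_of_map (c := toCocycle (unpush i c)) (c' := d) (fun p => p.1.2)
    (fun p => p.2) (fun _ => 1) (fun _ => isUnit_one) fun p q O hp hq => ?_)⟩
  rw [map_one, map_one, one_mul, mul_one]
  show _ = res _ (uval (usect _))
  rw [uval_usect, IsUnit.unit_spec, d.res_G]

end GrothLib.PicH1
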